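import Cfsg.Agent.Schur.Suz.CovD

set_option autoImplicit false
set_option maxRecDepth 100000

namespace Cfsg.Agent.Schur.Suz
open Cfsg.Agent.Comp Cfsg.Agent.Schur

theorem covE_0_0 : EqsP 70866 0 17 TC covE_0L :=
  eqsP_of okC (by norm_num) (by norm_num) (by norm_num) (show eqsP (nat_lit 70866) (nat_lit 17) (nat_lit 0) (nat_lit 17) TC covE_0L = true by decide +kernel)

theorem covE_1_0 : EqsP 70866 0 17 TC covE_1L :=
  eqsP_of okC (by norm_num) (by norm_num) (by norm_num) (show eqsP (nat_lit 70866) (nat_lit 17) (nat_lit 0) (nat_lit 17) TC covE_1L = true by decide +kernel)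

theorem covE_2_0 : EqsP 70866 0 17 TC covE_2L :=
  eqsP_of okC (by norm_num) (by norm_num) (by norm_num) (show eqsP (nat_lit 70866) (nat_lit 17) (nat_lit 0) (nat_lit 17) TC covE_2L = true by decide +kernel)

theorem covE_3_0 : EqsP 70866 0 17 TC covE_3L :=
  eqsP_of okC (by norm_num) (by norm_num) (by norm_num) (show eqsP (nat_lit 70866) (nat_lit 17) (nat_lit 0) (nat_lit 17) TC covE_3L = true by decide +kernel)

theorem covE_4_0 : EqsP 70866 0 17 TC covE_4L :=
  eqsP_of okC (by norm_num) (by norm_num) (by norm_num) (show eqsP (nat_lit 70866) (nat_lit 17) (nat_lit 0) (nat_lit 17) TC covE_4L = true by decide +kernel)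

theorem covE_5_0 : EqsP 70866 0 17 TC covE_5L :=
  eqsP_of okC (by norm_num) (by norm_num) (by norm_num) (show eqsP (nat_lit 70866) (nat_lit 17) (nat_lit 0) (nat_lit 17) TC covE_5L = true by decide +kernel)

theorem covE_6_0 : EqsP 70866 0 17 TC covE_6L :=
  eqsP_of okC (by norm_num) (by norm_num) (by norm_num) (show eqsP (nat_lit 70866) (nat_lit 17) (nat_lit 0) (nat_lit 17) TC covE_6L = true by decide +kernel)

theorem covE_7_0 : EqsP 70866 0 17 TC covE_7L :=
  eqsP_of okC (by norm_num) (by norm_num) (by norm_num) (show eqsP (nat_lit 70866) (nat_lit 17) (nat_lit 0) (nat_lit 17) TC covE_7L = true by decide +kernel)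

theorem covE_8_0 : EqsP 70866 0 17 TC covE_8L :=
  eqsP_of okC (by norm_num) (by norm_num) (by norm_num) (show eqsP (nat_lit 70866) (nat_lit 17) (nat_lit 0) (nat_lit 17) TC covE_8L = true by decide +kernel)

theorem covE_9_0 : EqsP 70866 0 17 TC covE_9L :=
  eqsP_of okC (by norm_num) (by norm_num) (by norm_num) (show eqsP (nat_lit 70866) (nat_lit 17) (nat_lit 0) (nat_lit 17) TC covE_9L = true by decide +kernel)

theorem covE_10_0 : EqsP 70866 0 17 TC covE_10L :=
  eqsP_of okC (by norm_num) (by norm_num) (by norm_num) (show eqsP (nat_lit 70866) (nat_lit 17) (nat_lit 0) (nat_lit 17) TC covE_10L = true by decide +kernel)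

theorem covE_11_0 : EqsP 70866 0 17 TC covE_11L :=
  eqsP_of okC (by norm_num) (by norm_num) (by norm_num) (show eqsP (nat_lit 70866) (nat_lit 17) (nat_lit 0) (nat_lit 17) TC covE_11L = true by decide +kernel)

theorem covE_12_0 : EqsP 70866 0 17 TC covE_12L :=
  eqsP_of okC (by norm_num) (by norm_num) (by norm_num) (show eqsP (nat_lit 70866) (nat_lit 17) (nat_lit 0) (nat_lit 17) TC covE_12L = true by decide +kernel)

theorem covE_13_0 : EqsP 70866 0 17 TC covE_13L :=
  eqsP_of okC (by norm_num) (by norm_num) (by norm_num) (show eqsP (nat_lit 70866) (nat_lit 17) (nat_lit 0) (nat_lit 17) TC covE_13L = true by decide +kernel)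

theorem covE_14_0 : EqsP 70866 0 17 TC covE_14L :=
  eqsP_of okC (by norm_num) (by norm_num) (by norm_num) (show eqsP (nat_lit 70866) (nat_lit 17) (nat_lit 0) (nat_lit 17) TC covE_14L = true by decide +kernel)

theorem covE_15_0 : EqsP 70866 0 17 TC covE_15L :=
  eqsP_of okC (by norm_num) (by norm_num) (by norm_num) (show eqsP (nat_lit 70866) (nat_lit 17) (nat_lit 0) (nat_lit 17) TC covE_15L = true by decide +kernel)

theorem covE_16_0 : EqsP 70866 0 4 TC covE_16L :=
  eqsP_of okC (by norm_num) (by norm_num) (by norm_num) (show eqsP (nat_lit 70866) (nat_lit 17) (nat_lit 0) (nat_lit 4) TC covE_16L = true by decide +kernel)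

theorem covE_16_4 : EqsP 70866 4 8 TC covE_16L :=
  eqsP_of okC (by norm_num) (by norm_num) (by norm_num) (show eqsP (nat_lit 70866) (nat_lit 17) (nat_lit 4) (nat_lit 4) TC covE_16L = true by decide +kernel)

theorem covE_16_8 : EqsP 70866 8 12 TC covE_16L :=
  eqsP_of okC (by norm_num) (by norm_num) (by norm_num) (show eqsP (nat_lit 70866) (nat_lit 17) (nat_lit 8) (nat_lit 4) TC covE_16L = true by decide +kernel)

theorem covE_16_12 : EqsP 70866 12 16 TC covE_16L :=
  eqsP_of okC (by norm_num) (by norm_num) (by norm_num) (show eqsP (nat_lit 70866) (nat_lit 17) (nat_lit 12) (nat_lit 4) TC covE_16L = true by decide +kernel)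

theorem covE_16_16 : EqsP 70866 16 17 TC covE_16L :=
  eqsP_of okC (by norm_num) (by norm_num) (by norm_num) (show eqsP (nat_lit 70866) (nat_lit 17) (nat_lit 16) (nat_lit 1) TC covE_16L = true by decide +kernel)


end Cfsg.Agent.Schur.Suz
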