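import Cfsg.Agent.Schur.Cover
import Cfsg.Agent.Comp.Suz.Main
import Cfsg.Agent.Schur.Suz.CovN0

set_option autoImplicit false
set_option maxRecDepth 100000

namespace Cfsg.Agent.Schur.Suz
open Cfsg.Agent.Comp Cfsg.Agent.Schur

noncomputable def TC : List Net := [c0, c1, c2, c3, c4, c5, c6, c7]

theorem okC : TOK 70866 TC :=
  (TOK.cons c0_ok (TOK.cons c1_ok (TOK.cons c2_ok (TOK.cons c3_ok (TOK.cons c4_ok (TOK.cons c5_ok (TOK.cons c6_ok (TOK.cons c7_ok (TOK.nil _)))))))))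

def Zs : List (List Nat) :=
  [[],
   [7, 7],
   [7, 7, 7, 7],
   [7, 7, 7, 7, 7],
   [7, 7, 7],
   [],
   [],
   [7, 7, 7, 7, 7],
   [7, 7, 7, 7],
   [7, 7, 7, 7, 7],
   [7, 7, 7],
   [],
   [],
   [],
   [7],
   [7, 7, 7, 7, 7],
   [],
   [7, 7, 7],
   [],
   [7],
   [7, 7, 7, 7],
   [7, 7, 7, 7],
   [],
   [7, 7, 7, 7, 7],
   [7, 7, 7, 7, 7],
   [7, 7, 7],
   [7, 7, 7],
   [],
   [],
   [],
   [],
   [],
   []]

def covE_0L : List (List Nat × List Nat) :=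
  [([0, 0], []),
   ([1, 1], [7, 7]),
   ([2, 2], [7, 7, 7, 7]),
   ([3, 3], [7, 7, 7, 7, 7])]

def covE_1L : List (List Nat × List Nat) :=
  [([4, 4], [7, 7, 7]),
   ([5, 5], []),
   ([6, 6], [])]

def covE_2L : List (List Nat × List Nat) :=
  [([0, 1, 0, 1, 0, 1, 0, 1, 0, 1], [7, 7, 7, 7, 7])]

def covE_3L : List (List Nat × List Nat) :=
  [([0, 2, 0, 2], [7, 7, 7, 7]),
   ([0, 3, 0, 3], [7, 7, 7, 7, 7])]

def covE_4L : List (List Nat × List Nat) :=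
  [([0, 4, 0, 4], [7, 7, 7]),
   ([0, 5, 0, 5], []),
   ([0, 6, 0, 6], [])]

def covE_5L : List (List Nat × List Nat) :=
  [([1, 2, 1, 2, 1, 2], []),
   ([1, 3, 1, 3], [7]),
   ([1, 4, 1, 4], [7, 7, 7, 7, 7])]

def covE_6L : List (List Nat × List Nat) :=
  [([1, 5, 1, 5, 1, 5], []),
   ([1, 6, 1, 6, 1, 6], [7, 7, 7])]

def covE_7L : List (List Nat × List Nat) :=
  [([2, 3, 2, 3, 2, 3, 2, 3, 2, 3, 2, 3, 2, 3, 2, 3], [])]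

def covE_8L : List (List Nat × List Nat) :=
  [([2, 4, 2, 4], [7]),
   ([2, 5, 2, 5], [7, 7, 7, 7])]

def covE_9L : List (List Nat × List Nat) :=
  [([2, 6, 2, 6], [7, 7, 7, 7]),
   ([3, 4, 3, 4, 3, 4], [])]

def covE_10L : List (List Nat × List Nat) :=
  [([3, 5, 3, 5], [7, 7, 7, 7, 7]),
   ([3, 6, 3, 6], [7, 7, 7, 7, 7])]

def covE_11L : List (List Nat × List Nat) :=
  [([4, 5, 4, 5], [7, 7, 7]),
   ([4, 6, 4, 6], [7, 7, 7])]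

def covE_12L : List (List Nat × List Nat) :=
  [([5, 6, 5, 6, 5, 6, 5, 6], []),
   ([0, 3, 2, 3, 2, 3, 2, 3, 2], [])]

def covE_13L : List (List Nat × List Nat) :=
  [([0, 6, 5, 6, 5], [])]

def covE_14L : List (List Nat × List Nat) :=
  [([0, 1, 2, 5, 0, 1, 2, 5, 0, 1, 2, 5, 0, 1, 2, 5, 0, 1, 2, 5], [])]

def covE_15L : List (List Nat × List Nat) :=
  [([1, 5, 6, 1, 5, 6, 1, 5, 6, 1, 5, 6, 1, 5, 6], [])]

def covE_16L : List (List Nat × List Nat) :=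
  [([1, 2, 3, 2, 3, 1, 2, 3, 2, 3, 1, 2, 3, 2, 3, 1, 2, 3, 2, 3, 1, 2, 3, 2, 3, 4, 1, 2, 3, 2, 3, 1, 2, 3, 2, 3, 1, 2, 3, 2, 3, 1, 2, 3, 2, 3, 1, 2, 3, 2, 3, 4, 1, 2, 3, 2, 3, 1, 2, 3, 2, 3, 1, 2, 3, 2, 3, 1, 2, 3, 2, 3, 1, 2, 3, 2, 3, 4], [])]

def covE_17L : List (List Nat × List Nat) :=
  [([0, 7], [7, 0]),
   ([1, 7], [7, 1]),
   ([2, 7], [7, 2]),
   ([3, 7], [7, 3]),
   ([4, 7], [7, 4])]

def covE_18L : List (List Nat × List Nat) :=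
  [([5, 7], [7, 5]),
   ([6, 7], [7, 6]),
   ([7, 7], [7, 7]),
   ([7, 7, 7, 7, 7, 7], [])]


end Cfsg.Agent.Schur.Suz
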